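import Cfsg.Agent.J4Rep94.C5.Data

/-!
# Certificate data
-/

set_option autoImplicit false
set_option maxRecDepth 100000

namespace Cfsg.Agent.J4Rep94.C5

open Cfsg.Agent.CosetEnum

def fv0 : ℕ := 0x61000010005e001b700002000310000800186000010005c001b5000020005c0000700188000010005a001b3000020007400008000e60000100058001b1000020007300007000e40000100056001af000020007200009000e20000100054001ad000020007100007000e00000100052001ab000020007000008000de0000100050001a8000020006f000070019300001000dc001a600002000ba000080017b0000100172001a500002000be000080017d000010004c001a300002000bf000070017f000010004a001a100002000c0000090018100001000480019f00002000c1000070018300001000460019d00002000c2000080018500001000440019a00002000c30000700042000400003e0003c0003a000380018f0010900113001150011700119001900017000199001780017600174000ea00196000c7000c9000cb000cd000cf000d1000d3000d50001c0018400182001800017e0017c0017a000da000d8000d6000090006b00006001780017600174000ea00196000c7000c90000700171001910011800116001140011200108001060003400032000300002e0002c0018c000fb000fd000ff00101001030010500194000f6000f4000f2000f0000ee000ec000ce000cc000ca0001e0006500005000e800001000c4000010006200002001040010200100000fe000fc000fa000f800028000260002400022000200001e0001c0001a0001800016000140018a000bb000bd00015000f6000f4000f2000f0000ee000ec00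0ce000cc000ca000c8000c6000c4000c2000c0000be0000f0005f0000400172000010004e00001000270000200118001160011400112001080018e00006001700016e0016c0016a00168001660016400162001600015e0015c0015a00158001560015400152001500014e0014c0014a00148001460014400142001400013e0013c0013a00138001360013400132001300012e0012c0012a00128001260012400122001200011e0011c0011a001100010e0010c0010a00038000310001c00003001060000100036000010001b000020002a00001000f80000100015000020001200001000b8000010000900002001870006000002000e6000e4000e2000e0000de000dc000da000d8000d6000d4000d2000d0000ce000cc000ca000c8000c6000c4000c2000c0000be000bc000ba000b8000100000e0000c0000a00008000060000400002000000002100000000010006000001000b6000b4000b2000b0000ae000ac000aa000a8000a6000a4000a2000a00009e0009c0009a00098000960009400092000900008e0008c0008a00088000860008400082000800007e0007c0007a00078000760007400072000700006e0006c0006a000680006600064000620001400012000100000e0000c0000a0000800006000040000200000000360000000000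
theorem fok0 : sys.checkFacts 195 26 fv0 = true := by decide +kernel


end Cfsg.Agent.J4Rep94.C5
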