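import Cfsg.Agent.J4Rep94.P7
import Cfsg.Agent.J4Rep94.Orbit

/-!
# Certificate data
-/

set_option autoImplicit false
set_option maxRecDepth 100000

namespace Cfsg.Agent.J4Rep94.C5

open Cfsg.Agent.CosetEnum

def fxL0 : ℕ := 0x30000000030180018800178c00170000b86000e80005a3000730002c180039000158c001c4000a86000e0000523000280006f1800370005d0c002f80009c60017e0004c3000c000025180060800120c003080008c600044001863000bd000b808003a800318c0020c001f02001740005010008d000b90800420000e0400058001f4200014000ba20005c000740000188002e000030c00308200184001820000c1000c01000600005f80002fc002f820017c000dc1000bd000bc00005e0005d88002ec001d84001740004e0000b9000b810005c0005b80002dc002d820016c0016a0000b5000b408005a0005980002cc002c8400164001620000b1000b00800580005780002bc002b840015c0015a0000ad000ac0800560005580002ac002a8400154001520000a9000a808005400053800029c0029820014c0014a0000a5000a410005200051800028c00288200144001420000a1000a01000500004f800027c0027820013c0013a00009d0009c10004e0004d800026c00268200134001320000990009808004c0004b800025c0025840012c0012a0000950009408004a0004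9800024c00248400124001220000910009008004800047800023c0023840011c0011200008d0008c08004600045800022c002284001140010a0000890008808004400043800021c0021820010c0003a000085000841000420000d880020c0020800010400102100081000800000400003f88001fc001f80000fc000fa10007d0001500003e0003d84001ec001e80000f4000f22000790007800003c0003b84001dc001a00000ec000ea2000750006200003a0003984001cc001c80000e4000e2200071000700000380003788001bc001b80000dc000da10006d0006c0000360003588001ac001a80000d4000d22000690006800003400033840019c001980000cc000ca2000650006400003200031840018c001880000c4000c2100061000600000300002f880017c001780000bc000ba10005d0000908002e0002d800016c001684000b4000b20000590005808002c0002b800015c001584000ac000aa0000550005408002a00029800014c001482000a4000a20000510005010002800027800013c0013820009c0009a00004d0004c10002600025800012c00128200094000920000490004810002400023800011c0011820008c0008a0000450004408002200021800010c0010840008400082000041000400800200001f80000fc000f840007c0007a00003d0003c08001e0001d80000ec000e8400074000720000390003808001c0001b80000dc000d820006c0006a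0000350003410001a0001980000cc000c820006400016100031000001000180001780000bc000b840005c0005a00002d0002c0800160001580000ac000a8400054000520000290002808001400013800009c0009820004c0004a0000250002410001200011800008c0008840004400042000021000200800100000f800007c0007840003c0003a00001d0001c08000e0000d800006c00068200034000320000190001810000c0000b800005c0005840002c0002a0000150001408000a00009800004c00048400024000220000110001008000800007800003c0003820001c0001a00000d0000c10000600005800002c00028400014000120000090000808000400003800001c0001840000c0000a0000050000408000200001800000c000082000040000200000100000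
def fx : PTree := (.leaf fxL0)
def rules0 : DTree Rule := (.node 5 (.node 2 (.node 1 (.leaf ⟨0, [0,1,0,1,0,2,0,1,0,2,0,1,0,2,0,1,0,1,0,2,0,1,0,2,0,1,0,2,0,1,0,1,0,2,0,1,0,2,0,1,0,2,0,1,0,1,0,2,0,1,0,2,0,1], [1], false, 7, 0⟩) (.leaf ⟨2, [0,1,0,1,0,2,0,1,0,1,0,2,0,1,0,1,0,2,0,1,0,2,0,2,0,1,0,2,0,2,0,1,0], [1,0], false, 8, 0⟩)) (.node 1 (.leaf ⟨1, [1], [2], false, 3, 0⟩) (.node 1 (.leaf ⟨1, [0,1,0,1,0,2,0,1,0,2,0,1,0,2,0,1,0,1,0,2,0,1,0,2,0,1,0,2,0,1,0,1,0,2,0,1,0,2,0,1,0,2,0,1,0,1,0,2,0], [1,0,2,0,1,0], false, 7, 0⟩) (.leaf ⟨3, [0,1,0,1,0,2,0,1,0,1,0,2,0,1,0], [1,0,1,0,2,0,1,0,1,0,2,0,1,0,1,0,2,0,1,0,2], false, 8, 0⟩)))) (.node 2 (.node 1 (.leaf ⟨3, [0,1,0,1,0,2,0,1,0,1,0,2,0,1,0,1,0,2,0,1,0,2,0,2,0,1,0,2,0], [1,0,1,0,2,0,1], false, 8, 0⟩) (.leaf ⟨3, [0,1,0,1,0,2,0,1,0], [1,0,1,0,2,0,1,0,1,0,2,0,1,0,1,0,2,0,1,0,2,0,2,0,1,0,2], false, 8, 0⟩)) (.node 1 (.leaf ⟨3, [0], [0], false, 0, 0⟩) (.node 1 (.leaf ⟨3, [2], [2], false, 2, 0⟩) (.leaf ⟨3, [1], [1], false, 1, 0⟩)))))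
def rules : DTree Rule := rules0
def sys : Sys := ⟨3, 0x18440, fx, rules⟩
def rels : List (List ℕ) := baseRels ++ []
def subs : List (List ℕ) := []

end Cfsg.Agent.J4Rep94.C5
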